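import Groth.Agent.H18.HullFin.AssFlat
import Groth.Agent.H18.FEquidim.Loc
import Groth.Agent.H52.FBase.TensorFields
import Mathlib.RingTheory.Localization.BaseChange
import Mathlib.RingTheory.Localization.Submodule
import Mathlib.RingTheory.EssentialFiniteness
import Mathlib.LinearAlgebra.TensorProduct.RightExactness
import Mathlib.RingTheory.Ideal.AssociatedPrime.Localization
import Mathlib.RingTheory.Flat.FaithfullyFlat.Algebra

/-!
# Strictly equidimensional completions of algebras essentially of finite type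
-/

set_option linter.style.haveILetI false

universe u

open IsLocalRing TensorProduct MvPolynomial

namespace Groth.Agent.H18.HullFin.EssStrict

theorem ass_le_minimal_of_injective {U V : Type u} [CommRing U] [CommRing V] [IsNoetherianRing U]
    [IsNoetherianRing V] (ψ : U →+* V) (hinj : Function.Injective ψ)
    (hsurj : ∀ v : V, ∃ s u : U, IsUnit (ψ s) ∧ ψ s * v = ψ u)
    (hV : associatedPrimes V V ⊆ minimalPrimes V) : associatedPrimes U U ⊆ minimalPrimes U := by
  intro Q hQ
  obtain ⟨hQp, w, hw⟩ := isAssociatedPrime_iff.1 hQ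
  have := AssFlat.minimal_of_unit_surjective ψ hsurj hV (P := Q) w fun x => by
    rw [map_eq_zero_iff ψ hinj, hw, Submodule.mem_colon_singleton, Submodule.mem_bot, smul_eq_mul]
  rwa [(RingHom.injective_iff_ker_eq_bot ψ).1 hinj] at this

theorem ass_le_minimal_of_equiv {U V : Type u} [CommRing U] [CommRing V] [IsNoetherianRing U]
    (e : U ≃+* V) (hV : associatedPrimes V V ⊆ minimalPrimes V) :
    associatedPrimes U U ⊆ minimalPrimes U :=
  haveI := isNoetherianRing_of_ringEquiv U e
  ass_le_minimal_of_injective e.toRingHom e.injective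
    (fun v => ⟨1, e.symm v, by simp, by simp⟩) hV

/-- A tensor product of a ring without embedded primes with a domain over a subdomain has no
embedded primes. -/
theorem no_embedded (A₀ H C : Type u) [CommRing A₀] [IsDomain A₀] [IsNoetherianRing A₀] [CommRing H]
    [IsNoetherianRing H] [Algebra A₀ H] [Module.Flat A₀ H]
    (hH : associatedPrimes H H ⊆ minimalPrimes H) [CommRing C] [IsDomain C] [Algebra A₀ C]
    [FaithfulSMul A₀ C] [Algebra.EssFiniteType A₀ C] :
    associatedPrimes (H ⊗[A₀] C) (H ⊗[A₀] C) ⊆ minimalPrimes (H ⊗[A₀] C) := by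
  let k₀ := FractionRing A₀
  let K := FractionRing C
  haveI : Algebra.EssFiniteType C K := Algebra.EssFiniteType.of_isLocalization K (nonZeroDivisors C)
  haveI : Algebra.EssFiniteType A₀ K := Algebra.EssFiniteType.comp A₀ C K
  haveI : FaithfulSMul A₀ K := (faithfulSMul_iff_algebraMap_injective A₀ K).2 (by
    rw [IsScalarTower.algebraMap_eq A₀ C K]
    exact (IsFractionRing.injective C K).comp (FaithfulSMul.algebraMap_injective A₀ C))
  letI : Algebra k₀ K := FractionRing.liftAlgebra A₀ K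
  haveI : Module.Flat A₀ k₀ := IsLocalization.flat k₀ (nonZeroDivisors A₀)
  haveI : Module.Flat A₀ K := Module.Flat.trans A₀ k₀ K
  haveI : IsNoetherianRing (H ⊗[A₀] C) := Algebra.EssFiniteType.isNoetherianRing H _
  haveI : IsNoetherianRing (H ⊗[A₀] K) := Algebra.EssFiniteType.isNoetherianRing H _
  let φ : H ⊗[A₀] C →ₐ[A₀] H ⊗[A₀] K :=
    Algebra.TensorProduct.map (AlgHom.id A₀ H) (IsScalarTower.toAlgHom A₀ C K)
  have hφ : Function.Injective φ :=
    Module.Flat.lTensor_preserves_injective_linearMap (M := H)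
      (IsScalarTower.toAlgHom A₀ C K).toLinearMap (IsFractionRing.injective C K)
  refine ass_le_minimal_of_injective φ.toRingHom hφ ?_ ?_
  · intro v
    suffices h : ∃ (d : C) (u : H ⊗[A₀] C), d ≠ 0 ∧ φ (1 ⊗ₜ d) * v = φ u by
      obtain ⟨d, u, hd, hu⟩ := h
      refine ⟨1 ⊗ₜ d, u, ?_, hu⟩
      change IsUnit (φ (1 ⊗ₜ d))
      rw [Algebra.TensorProduct.map_tmul]
      exact (IsLocalization.map_units K
        (⟨d, mem_nonZeroDivisors_of_ne_zero hd⟩ : nonZeroDivisors C)).map
        (Algebra.TensorProduct.includeRight : K →ₐ[A₀] H ⊗[A₀] K)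
    induction v using TensorProduct.induction_on with
    | zero => exact ⟨1, 0, one_ne_zero, by simp⟩
    | tmul h k =>
      obtain ⟨⟨a, d⟩, hd⟩ := IsLocalization.surj (nonZeroDivisors C) k
      refine ⟨d, h ⊗ₜ a, nonZeroDivisors.coe_ne_zero d, ?_⟩
      simp only [φ, Algebra.TensorProduct.map_tmul, Algebra.TensorProduct.tmul_mul_tmul, map_one,
        AlgHom.id_apply, one_mul, IsScalarTower.coe_toAlgHom', mul_comm _ k, hd]
    | add a b ha hb =>
      obtain ⟨d, u, hd, hu⟩ := ha
      obtain ⟨d', u', hd', hu'⟩ := hb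
      refine ⟨d * d', (1 ⊗ₜ d') * u + (1 ⊗ₜ d) * u', mul_ne_zero hd hd', ?_⟩
      rw [map_add, map_mul, map_mul, ← hu, ← hu',
        show (1 : H) ⊗ₜ[A₀] (d * d') = (1 ⊗ₜ d) * (1 ⊗ₜ d') by simp, map_mul]
      ring
  -- the generic fibre
  intro Q hQ
  set h := Q.comap (algebraMap H (H ⊗[A₀] K)) with hdef
  have hhmin : h ∈ minimalPrimes H := AssFlat.minimal_comap_of_flat hH hQ
  haveI := hhmin.1.1
  haveI := IsAssociatedPrime.isPrime hQ
  have hh0 : h.comap (algebraMap A₀ H) = ⊥ := by
    have hA₀ : associatedPrimes A₀ A₀ ⊆ minimalPrimes A₀ := by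
      intro P hP
      obtain ⟨hPp, w, hw⟩ := isAssociatedPrime_iff.1 hP
      have hw0 : w ≠ 0 := fun h => hPp.ne_top ((Ideal.eq_top_iff_one P).2 (by
        rw [hw, Submodule.mem_colon_singleton, h, smul_zero]
        exact zero_mem _))
      have : P = ⊥ := by
        rw [eq_bot_iff]
        intro x hx
        rw [hw, Submodule.mem_colon_singleton, Submodule.mem_bot, smul_eq_mul] at hx
        exact (mul_eq_zero.1 hx).resolve_right hw0
      rw [this, IsDomain.minimalPrimes_eq_singleton_bot]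
      exact rfl
    have hass : h ∈ associatedPrimes H H :=
      Module.associatedPrimes.minimalPrimes_annihilator_subset_associatedPrimes _ _
        (by rwa [Module.annihilator_eq_bot.mpr inferInstance])
    have := AssFlat.minimal_comap_of_flat hA₀ hass
    rwa [IsDomain.minimalPrimes_eq_singleton_bot, Set.mem_singleton_iff] at this
  let L := FractionRing (H ⧸ h)
  have hAL : Function.Injective (algebraMap A₀ L) := by
    rw [IsScalarTower.algebraMap_eq A₀ (H ⧸ h) L]
    refine (IsFractionRing.injective (H ⧸ h) L).comp (?_ : Function.Injective (algebraMap A₀ (H ⧸ h)))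
    refine (injective_iff_map_eq_zero _).2 fun a ha => ?_
    rw [IsScalarTower.algebraMap_apply A₀ H (H ⧸ h), Ideal.Quotient.algebraMap_eq,
      Ideal.Quotient.eq_zero_iff_mem] at ha
    exact Ideal.mem_bot.1 (hh0.le ha)
  haveI : FaithfulSMul A₀ L := (faithfulSMul_iff_algebraMap_injective A₀ L).2 hAL
  letI : Algebra k₀ L := FractionRing.liftAlgebra A₀ L
  haveI : IsNoetherianRing (L ⊗[A₀] K) := Algebra.EssFiniteType.isNoetherianRing L _
  have hV : associatedPrimes (L ⊗[A₀] K) (L ⊗[A₀] K) ⊆ minimalPrimes (L ⊗[A₀] K) :=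
    ass_le_minimal_of_equiv
      (IsLocalization.algebraTensorEquiv (nonZeroDivisors A₀) k₀ L K).symm.toRingEquiv
      H52.FBase.TensorFields.tensor_fields
  let ψ₁ : H ⊗[A₀] K →ₐ[A₀] (H ⧸ h) ⊗[A₀] K :=
    Algebra.TensorProduct.map (Ideal.Quotient.mkₐ A₀ h) (AlgHom.id A₀ K)
  let ψ₂ : (H ⧸ h) ⊗[A₀] K →ₐ[A₀] L ⊗[A₀] K :=
    Algebra.TensorProduct.map (IsScalarTower.toAlgHom A₀ (H ⧸ h) L) (AlgHom.id A₀ K)
  have hψ₂ : Function.Injective ψ₂ :=
    Module.Flat.rTensor_preserves_injective_linearMap (M := K)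
      (IsScalarTower.toAlgHom A₀ (H ⧸ h) L).toLinearMap (IsFractionRing.injective (H ⧸ h) L)
  let ψ := ψ₂.comp ψ₁
  have hker : RingHom.ker ψ.toRingHom = h.map (algebraMap H (H ⊗[A₀] K)) := by
    have h1 : RingHom.ker ψ.toRingHom = RingHom.ker ψ₁ := by
      ext x
      exact map_eq_zero_iff ψ₂ hψ₂
    rw [h1, Algebra.TensorProduct.rTensor_ker (Ideal.Quotient.mkₐ A₀ h)
      (Ideal.Quotient.mkₐ_surjective A₀ h),
      show RingHom.ker (Ideal.Quotient.mkₐ A₀ h) = h from Ideal.Quotient.mkₐ_ker A₀ h]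
    rfl
  obtain ⟨hQp, z, hz⟩ := isAssociatedPrime_iff.1 (AssFlat.mem_ass_map_comap_self (A := H) hQ)
  obtain ⟨w, rfl⟩ := Ideal.Quotient.mk_surjective z
  have hmin := AssFlat.minimal_of_unit_surjective ψ.toRingHom (fun v => by
    suffices hh : ∃ (b : H) (u : H ⊗[A₀] K), b ∉ h ∧ ψ (b ⊗ₜ 1) * v = ψ u by
      obtain ⟨b, u, hb, hu⟩ := hh
      refine ⟨b ⊗ₜ 1, u, ?_, hu⟩
      have hb0 : algebraMap (H ⧸ h) L (Ideal.Quotient.mk h b) ≠ 0 :=
        (map_ne_zero_iff _ (IsFractionRing.injective (H ⧸ h) L)).2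
          (fun h0 => hb (Ideal.Quotient.eq_zero_iff_mem.1 h0))
      change IsUnit (ψ (b ⊗ₜ 1))
      simp only [ψ, ψ₁, ψ₂, AlgHom.comp_apply, Algebra.TensorProduct.map_tmul, AlgHom.id_apply]
      exact (isUnit_iff_ne_zero.2 hb0).map
        (Algebra.TensorProduct.includeLeft : L →ₐ[A₀] L ⊗[A₀] K)
    induction v using TensorProduct.induction_on with
    | zero => exact ⟨1, 0, fun h1 => Ideal.IsPrime.ne_top ‹h.IsPrime› ((Ideal.eq_top_iff_one h).2 h1), by simp⟩
    | tmul l k =>
      obtain ⟨⟨a, d⟩, hd⟩ := IsLocalization.surj (nonZeroDivisors (H ⧸ h)) l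
      obtain ⟨a, rfl⟩ := Ideal.Quotient.mk_surjective a
      obtain ⟨b, hb⟩ := Ideal.Quotient.mk_surjective (d : H ⧸ h)
      refine ⟨b, a ⊗ₜ k, fun hbh => nonZeroDivisors.coe_ne_zero d
        (hb.symm.trans (Ideal.Quotient.eq_zero_iff_mem.2 hbh)), ?_⟩
      simp only [ψ, ψ₁, ψ₂, AlgHom.comp_apply, Algebra.TensorProduct.map_tmul, AlgHom.id_apply,
        Ideal.Quotient.mkₐ_eq_mk, IsScalarTower.coe_toAlgHom', Algebra.TensorProduct.tmul_mul_tmul,
        one_mul, hb, mul_comm _ l, hd]
    | add x y hx hy =>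
      obtain ⟨b, u, hb, hu⟩ := hx
      obtain ⟨b', u', hb', hu'⟩ := hy
      refine ⟨b * b', (b' ⊗ₜ 1) * u + (b ⊗ₜ 1) * u',
        fun hm => ((inferInstance : h.IsPrime).mem_or_mem hm).elim hb hb', ?_⟩
      rw [map_add, map_mul, map_mul, ← hu, ← hu',
        show (b * b') ⊗ₜ[A₀] (1 : K) = (b ⊗ₜ 1) * (b' ⊗ₜ 1) by simp, map_mul]
      ring) hV (P := Q) w (fun x => by
        rw [← RingHom.mem_ker, hker]
        conv_lhs => rw [hz]
        rw [AssFlat.mem_colon_self, hdef])
  refine ⟨⟨inferInstance, bot_le⟩, fun P₁ hP₁ hle => hmin.2 ⟨hP₁.1, ?_⟩ hle⟩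
  rw [hker, Ideal.map_le_iff_le_comap]
  haveI := hP₁.1
  exact hhmin.2 ⟨inferInstance, bot_le⟩ (Ideal.comap_mono hle)

/-- A quotient of a Cohen–Macaulay local ring is formally strictly catenary. -/
theorem isFormallyStrictlyCatenary_of_surjective {A S : Type u} [CommRing A]
    [LocCoh.IsCohenMacaulayLocalRing A] [CommRing S] [IsLocalRing S]
    (L : A →+* S) (hL : Function.Surjective L) : EGA4.IsFormallyStrictlyCatenary S := by
  intro p hp
  let g' : A →+* S ⧸ p := (Ideal.Quotient.mk p).comp L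
  have hg' : Function.Surjective g' := Ideal.Quotient.mk_surjective.comp hL
  have hk : RingHom.ker g' = p.comap L := by rw [← RingHom.comap_ker, Ideal.mk_ker]
  obtain ⟨e⟩ := FEquidim.Iso.exists_cplEquiv
    ((Ideal.quotEquivOfEq hk.symm).trans (RingHom.quotientKerEquivOfSurjective hg'))
  exact Lib.Henselian.FormallyCatenary.isStrictlyEquidim_congr e
    (FEquidim.CM.isFormallyStrictlyCatenary (A := A) Lib.Depth.CM.isCohenMacaulayModule_self
      (by simp [Module.support_eq_zeroLocus, Module.annihilator_eq_bot.mpr]) (p.comap L))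

/-- Local algebras essentially of finite type over a complete local ring are formally strictly
catenary. -/
theorem isFormallyStrictlyCatenary_of_complete (R : Type u) [CommRing R] [IsLocalRing R]
    [IsNoetherianRing R] [IsAdicComplete (maximalIdeal R) R] (S : Type u) [CommRing S]
    [IsLocalRing S] [IsNoetherianRing S] [Algebra R S] [Algebra.EssFiniteType R S] :
    EGA4.IsFormallyStrictlyCatenary S := by
  obtain ⟨Λ, _, d, g, -, hreg, hg⟩ := Lib.Cohen.Presentation.exists_surjective_mvPowerSeries R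
  haveI : LocCoh.IsCohenMacaulayLocalRing (MvPowerSeries (Fin d) Λ) :=
    Lib.JacCrit.FlatRegular.isCohenMacaulayLocalRing _
  haveI : LocCoh.IsCohenMacaulayRing (MvPowerSeries (Fin d) Λ) :=
    { isCohenMacaulayLocalRing_localization := fun p _ =>
        Lib.Depth.CM.isCohenMacaulayLocalRing_localization p }
  obtain ⟨s, hs⟩ := (inferInstance : Algebra.EssFiniteType R S).cond
  have hsf : (Algebra.adjoin R (s : Set S)).FG := ⟨s, rfl⟩
  obtain ⟨n, f, hf⟩ := Algebra.FiniteType.iff_quotient_mvPolynomial''.mp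
    ((Subalgebra.fg_iff_finiteType _).mp hsf)
  have := CMPoly.mvPolynomial (MvPowerSeries (Fin d) Λ) n
  let G := MvPolynomial.map (σ := Fin n) g
  have hG : Function.Surjective G := MvPolynomial.map_surjective _ hg
  let h : Algebra.adjoin R (s : Set S) →+* S := algebraMap _ S
  obtain ⟨L, hL⟩ := FEquidim.Loc.exists_lift_surjective ((h.comp f.toRingHom).comp G) h
    (fun b => by
      obtain ⟨⟨x, y⟩, hxy⟩ := IsLocalization.surj ((IsUnit.submonoid S).comap
        (algebraMap (Algebra.adjoin R (s : Set S)) S)) b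
      exact ⟨x, y, y.2, hxy⟩)
    (fun c => by
      obtain ⟨z, rfl⟩ := hf c
      obtain ⟨w, rfl⟩ := hG z
      exact ⟨w, rfl⟩)
  haveI : LocCoh.IsCohenMacaulayLocalRing
      (Localization.AtPrime ((maximalIdeal S).comap ((h.comp f.toRingHom).comp G))) :=
    LocCoh.IsCohenMacaulayRing.isCohenMacaulayLocalRing_localization _
  exact isFormallyStrictlyCatenary_of_surjective L hL

theorem ass_le_minimal_of_strictly {R : Type u} [CommRing R] [IsLocalRing R] [IsNoetherianRing R]
    (h : EGA4.IsStrictlyEquidim R) : associatedPrimes R R ⊆ minimalPrimes R := fun P hP =>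
  AssFlat.minimal_of_strictly (I := ⊥)
    (Lib.Henselian.FormallyCatenary.isStrictlyEquidim_congr (RingEquiv.quotientBot R).symm h)
    ((AssFlat.ass_self_iff_ass_quot_bot rfl).1 hP)

/-- Absence of embedded primes in the completion, through a flat cover. -/
theorem ass_cpl_le_minimal (H T C : Type u) [CommRing H] [IsLocalRing H] [IsNoetherianRing H]
    [IsAdicComplete (maximalIdeal H) H] [CommRing T] [IsNoetherianRing T] [Algebra H T]
    [Algebra.EssFiniteType H T] (hT : associatedPrimes T T ⊆ minimalPrimes T) [CommRing C]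
    [IsLocalRing C] [IsNoetherianRing C] [Algebra C T] [Module.Flat C T] (M : Ideal T) [M.IsPrime]
    (hMc : M.comap (algebraMap C T) = maximalIdeal C) :
    associatedPrimes (EGA4.Cpl C) (EGA4.Cpl C) ⊆ minimalPrimes (EGA4.Cpl C) := by
  let S := Localization.AtPrime M
  haveI : Algebra.EssFiniteType T S := Algebra.EssFiniteType.of_isLocalization S M.primeCompl
  haveI : Algebra.EssFiniteType H S := Algebra.EssFiniteType.comp H T S
  have hS : EGA4.IsFormallyStrictlyCatenary S := isFormallyStrictlyCatenary_of_complete H S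
  haveI : IsLocalHom (algebraMap C S) := by
    refine ((local_hom_TFAE (algebraMap C S)).out 4 0).mp ?_
    rw [IsScalarTower.algebraMap_eq C T S, ← Ideal.comap_comap,
      show (maximalIdeal S).comap (algebraMap T S) = M from IsLocalization.AtPrime.comap_maximalIdeal S M]
    exact hMc
  haveI : Module.Flat C S := Module.Flat.trans C T S
  have hSass : associatedPrimes S S ⊆ minimalPrimes S := by
    intro P hP
    haveI : Module.Flat T S := IsLocalization.flat S M.primeCompl
    have hmin := AssFlat.minimal_comap_of_flat (A := T) hT hP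
    have hPp : P.IsPrime := IsAssociatedPrime.isPrime hP
    refine ⟨⟨hPp, bot_le⟩, fun P₁ hP₁ hle => ?_⟩
    haveI := hP₁.1
    have := hmin.2 ⟨inferInstance, bot_le⟩ (Ideal.comap_mono (f := algebraMap T S) hle)
    rw [← IsLocalization.map_under M.primeCompl S P, ← IsLocalization.map_under M.primeCompl S P₁]
    exact Ideal.map_mono this
  -- the completion of `S` has no embedded primes
  haveI := FEquidim.Cpl.isLocalHom_cpl (A := S)
  have hSc : associatedPrimes (EGA4.Cpl S) (EGA4.Cpl S) ⊆ minimalPrimes (EGA4.Cpl S) := by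
    intro Q hQ
    haveI := IsAssociatedPrime.isPrime hQ
    have hq := AssFlat.minimal_comap_of_flat (A := S) hSass hQ
    set q := Q.comap (algebraMap S (EGA4.Cpl S)) with hqdef
    haveI := hq.1.1
    haveI : IsLocalRing (S ⧸ q) := .of_surjective' _ Ideal.Quotient.mk_surjective
    obtain ⟨eq'⟩ := FEquidim.Cpl.exists_quotEquiv q
    have hmin := AssFlat.minimal_of_strictly
      (Lib.Henselian.FormallyCatenary.isStrictlyEquidim_congr eq'.symm (hS q))
      (AssFlat.mem_ass_map_comap_self (A := S) hQ)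
    refine ⟨⟨inferInstance, bot_le⟩, fun P₁ hP₁ hle => hmin.2 ⟨hP₁.1, ?_⟩ hle⟩
    rw [Ideal.map_le_iff_le_comap]
    haveI := hP₁.1
    exact hq.2 ⟨inferInstance, bot_le⟩ (Ideal.comap_mono hle)
  -- descent to the completion of `C`
  obtain ⟨ψ, hψ⟩ := FEquidim.Loc.exists_cplMap C S
  letI := ψ.toAlgebra
  haveI : IsScalarTower C (EGA4.Cpl C) (EGA4.Cpl S) := IsScalarTower.of_algebraMap_eq' (by
    rw [IsScalarTower.algebraMap_eq C S (EGA4.Cpl S)]
    exact hψ.symm)
  haveI : Module.Flat (EGA4.Cpl C) (EGA4.Cpl S) := H24.CompletionFlat.flat_completion C S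
  have hmap : (maximalIdeal (EGA4.Cpl C)).map ψ ≤ maximalIdeal (EGA4.Cpl S) := by
    rw [AdicCompletion.maximalIdeal_eq_map, AdicCompletion.maximalIdeal_eq_map, Ideal.map_map, hψ,
      ← Ideal.map_map]
    exact Ideal.map_mono (map_maximalIdeal_le _)
  haveI : IsLocalHom (algebraMap (EGA4.Cpl C) (EGA4.Cpl S)) :=
    ((local_hom_TFAE ψ).out 0 2 (rfl) (rfl)).mpr hmap
  haveI : Module.FaithfullyFlat (EGA4.Cpl C) (EGA4.Cpl S) := Module.FaithfullyFlat.of_flat_of_isLocalHom
  exact AssFlat.minimal_of_faithfullyFlat hSc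

/-- Strict equidimensionality of completions passes to algebras essentially of finite type. -/
theorem isStrictlyEquidim_cpl (A₀ : Type u) [CommRing A₀] [IsDomain A₀] [IsLocalRing A₀]
    [IsNoetherianRing A₀] (hA₀ : EGA4.IsStrictlyEquidim (EGA4.Cpl A₀)) (C : Type u) [CommRing C]
    [IsDomain C] [IsLocalRing C] [IsNoetherianRing C] [Algebra A₀ C] [FaithfulSMul A₀ C]
    [Algebra.EssFiniteType A₀ C] (hC : EGA4.IsFormallyEquidim C) :
    EGA4.IsStrictlyEquidim (EGA4.Cpl C) := by
  haveI := FEquidim.Cpl.isLocalHom_cpl (A := A₀)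
  haveI : Module.FaithfullyFlat A₀ (EGA4.Cpl A₀) := Module.FaithfullyFlat.of_flat_of_isLocalHom
  let H := EGA4.Cpl A₀
  let T := C ⊗[A₀] H
  haveI : IsAdicComplete (maximalIdeal H) H := by
    rw [AdicCompletion.maximalIdeal_eq_map]
    exact AdicCompletion.isAdicComplete_self _ (Ideal.fg_of_isNoetherianRing _)
  let e : H ⊗[A₀] C ≃ₐ[A₀] T := Algebra.TensorProduct.comm A₀ H C
  haveI : IsNoetherianRing (H ⊗[A₀] C) := Algebra.EssFiniteType.isNoetherianRing H _
  haveI : IsNoetherianRing T := isNoetherianRing_of_ringEquiv _ e.toRingEquiv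
  letI : Algebra H T := (Algebra.TensorProduct.includeRight : H →ₐ[A₀] T).toRingHom.toAlgebra
  let eH : H ⊗[A₀] C ≃ₐ[H] T :=
    { e.toRingEquiv with
      commutes' := fun x => by
        change e (x ⊗ₜ 1) = (1 : C) ⊗ₜ[A₀] x
        exact Algebra.TensorProduct.comm_tmul .. }
  haveI : Algebra.EssFiniteType H T := (Algebra.EssFiniteType.iff_of_algEquiv eH).1 inferInstance
  have hT : associatedPrimes T T ⊆ minimalPrimes T :=
    ass_le_minimal_of_equiv e.symm.toRingEquiv
      (no_embedded A₀ H C (ass_le_minimal_of_strictly hA₀))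
  obtain ⟨⟨M, hM⟩, hMc⟩ := PrimeSpectrum.comap_surjective_of_faithfullyFlat (A := C) (B := T)
    ⟨maximalIdeal C, inferInstance⟩
  haveI : M.IsPrime := hM
  exact fun P hP => hC P
    (ass_cpl_le_minimal H T C hT M (congrArg PrimeSpectrum.asIdeal hMc) hP)

end Groth.Agent.H18.HullFin.EssStrict
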